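import Cfsg.Agent.BrauerPairs.Nil.Main
import Cfsg.Agent.BrauerPairs.AbelianLocal
import Cfsg.Agent.BrauerPairs.CyclicAct
import Cfsg.Agent.BlockVal.SectionCount

/-!
# Counting the characters of a block with cyclic defect group and one Brauer character
-/

set_option maxHeartbeats 400000
set_option linter.unusedSectionVars false
set_option linter.style.haveILetI false

namespace Cfsg.Agent.BrauerPairs.CyclicDefect

open MonoidAlgebra Cfsg

universe u

variable {p : ℕ} [Fact p.Prime] {M : Ideal AlgInt} [M.IsPrime] [CharP (Block.ResF M) p]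
  {G : Type u} [Group G] [Finite G]

theorem comm_of_isCyclic {P : Subgroup G} (hcyc : IsCyclic P) : ∀ x ∈ P, ∀ y ∈ P, x * y = y * x :=
  fun x hx y hy => by
    haveI := hcyc
    letI := IsCyclic.commGroup (α := P)
    exact congrArg Subtype.val (mul_comm (⟨x, hx⟩ : P) ⟨y, hy⟩)

theorem isCyclic_map_conj {P : Subgroup G} (hcyc : IsCyclic P) (g : G) :
    IsCyclic ↥(P.map (MulAut.conj g).toMonoidHom) := by
  haveI := hcyc
  exact isCyclic_of_surjective
    (P.equivMapOfInjective (MulAut.conj g).toMonoidHom (MulAut.conj g).injective).toMonoidHom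
    (P.equivMapOfInjective (MulAut.conj g).toMonoidHom (MulAut.conj g).injective).surjective

/-- The blocks of the centralizers of the non-trivial subgroups of a cyclic defect group have one
Brauer character. -/
theorem blockRank_local_eq_one (hM : IsPModular p M) {B : Blk M G} {P : Subgroup G}
    {c : Blk M (Subgroup.centralizer (P : Set G))}
    (hm : MaxPair (blockSysTop M) (pairSys M G) p B ⟨P, c⟩) (hcyc : IsCyclic P) {Q : Subgroup G}
    {f : Blk M (Subgroup.centralizer (Q : Set G))}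
    (hf : SLE (pairSys M G) p ⟨Q, f⟩ ⟨P, c⟩) (hQ : Q ≠ ⊥) : blockRank p f.1 = 1 := by
  have hP : IsPGroup p P := hm.1.1
  have hab := comm_of_isCyclic hcyc
  have hmax : IsMaximalBrauerPair p M B.1 P c.1 := (isMaximalBrauerPair_iff B ⟨P, c⟩).2 hm
  have hPC := le_centralizer_of_abelian hab hf.le
  obtain ⟨f', hn, -⟩ := existsUnique_nsub (pairSys M G) (b := ⟨P, c⟩) (Q := Q) hP hf.le
    (hPC.trans (Subgroup.centralizer_le_normalizer _))
  obtain rfl : f' = f := (existsUnique_sle (S := pairSys M G) (b := ⟨P, c⟩) hP hf.le).unique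
    (Relation.ReflTransGen.single hn) hf
  set T := stab (⟨P, c⟩ : PairIdx M G) with hT
  haveI : ((Subgroup.centralizer (P : Set G)).subgroupOf T).Normal :=
    (Subgroup.normal_subgroupOf_iff_le_normalizer (centralizer_le_stab (⟨P, c⟩ : PairIdx M G))).2
      ((stab_le_normalizer (⟨P, c⟩ : PairIdx M G)).trans (normalizer_le_normalizer_centralizer P))
  have he := not_dvd_relIndex_stab hmax hab
  have hnil := (isNilpotentBlock_local_iff hmax hab hn).2 (by
    rintro g ⟨hg, hgQ⟩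
    obtain ⟨x, hx, hx1⟩ := Q.bot_or_exists_ne_one.resolve_left hQ
    haveI := hcyc
    refine CyclicAct.mem_centralizer_of_fix hP (stab_le_normalizer (⟨P, c⟩ : PairIdx M G)) he hg
      (hf.le hx) hx1 ?_
    rw [← Subgroup.mem_centralizer_iff.1 hgQ x hx, mul_inv_cancel_right])
  haveI := Fintype.ofFinite (Subgroup.centralizer (Q : Set G))
  obtain ⟨d, hd⟩ := Block.exists_isDefectClass f'.2
  obtain ⟨S⟩ := (inferInstance : Nonempty (Sylow p
    (Subgroup.centralizer ({d} : Set (Subgroup.centralizer (Q : Set G))))))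
  obtain ⟨D, hDB, -⟩ := Nil.exists_nilData hM f' hnil ⟨d, hd, S, rfl⟩
  rw [← hDB]
  exact Nil.blockRank_eq_one D

/-- A block at a non-trivial `p`-element of a block with cyclic defect group has one Brauer
character. -/
theorem blockRank_section_eq_one (hM : IsPModular p M) {B : Blk M G} {P : Subgroup G}
    (hD : IsDef (blockSysTop M) p B P) (hcyc : IsCyclic P) {x : G}
    (hx : IsPGroup p (Subgroup.zpowers x)) (hx1 : x ≠ 1)
    {b : Blk M (Subgroup.centralizer (Subgroup.zpowers x : Set G))}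
    (hb : PairOf (blockSysTop M) (pairSys M G) p B ⟨Subgroup.zpowers x, b⟩) :
    blockRank p b.1 = 1 := by
  obtain ⟨⟨P', c'⟩, hle, hm⟩ := exists_maxPair_above hb
  obtain ⟨y, hy⟩ := hD.exists_conj hm.isDef
  have hy' : P' = P.map (MulAut.conj y).toMonoidHom := hy
  refine blockRank_local_eq_one hM hm ?_ hle (fun h => hx1 (Subgroup.zpowers_eq_bot.1 h))
  rw [hy']
  exact isCyclic_map_conj hcyc y

/-- `u` is reached from the section `(x, b)` inside the pair `(P, c)`. -/
def Reaches (p : ℕ) {P : Subgroup G} (c : Blk M (Subgroup.centralizer (P : Set G))) (x : G)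
    (b : Blk M (Subgroup.centralizer (Subgroup.zpowers x : Set G))) (u : G) : Prop :=
  ∃ (g : G) (f : Blk M (Subgroup.centralizer (Subgroup.zpowers u : Set G))),
    g * x * g⁻¹ = u ∧ CjRel (pairSys M G) g ⟨Subgroup.zpowers x, b⟩ ⟨Subgroup.zpowers u, f⟩ ∧
      SLE (pairSys M G) p ⟨Subgroup.zpowers u, f⟩ ⟨P, c⟩

theorem map_conj_zpowers (g x : G) :
    (Subgroup.zpowers x).map (MulAut.conj g).toMonoidHom = Subgroup.zpowers (g * x * g⁻¹) := by
  rw [MonoidHom.map_zpowers]
  rfl

theorem exists_reaches {B : Blk M G} {P : Subgroup G}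
    {c : Blk M (Subgroup.centralizer (P : Set G))}
    (hm : MaxPair (blockSysTop M) (pairSys M G) p B ⟨P, c⟩) {x : G}
    {b : Blk M (Subgroup.centralizer (Subgroup.zpowers x : Set G))}
    (hb : PairOf (blockSysTop M) (pairSys M G) p B ⟨Subgroup.zpowers x, b⟩) :
    ∃ u ∈ P, Reaches p c x b u := by
  obtain ⟨g, ⟨Q, f⟩, hc, hle⟩ := hm.exists_conj_sle hb
  obtain rfl : Q = Subgroup.zpowers (g * x * g⁻¹) := by
    rw [← map_conj_zpowers]; exact hc.1.symm
  exact ⟨_, hle.le (Subgroup.mem_zpowers _), g, f, rfl, hc, hle⟩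

theorem Reaches.mem {P : Subgroup G} {c : Blk M (Subgroup.centralizer (P : Set G))} {x u : G}
    {b : Blk M (Subgroup.centralizer (Subgroup.zpowers x : Set G))} (h : Reaches p c x b u) :
    u ∈ P := by
  obtain ⟨g, f, -, -, hle⟩ := h
  exact hle.le (Subgroup.mem_zpowers _)

theorem Reaches.stab {P : Subgroup G} {c : Blk M (Subgroup.centralizer (P : Set G))} {x u : G}
    {b : Blk M (Subgroup.centralizer (Subgroup.zpowers x : Set G))} (h : Reaches p c x b u) {t : G}
    (ht : t ∈ BrauerPairs.stab (⟨P, c⟩ : PairIdx M G)) : Reaches p c x b (t * u * t⁻¹) := by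
  obtain ⟨g, f, hgu, hc, hle⟩ := h
  obtain ⟨⟨Q, f'⟩, hc'⟩ := exists_cjRel (S := pairSys M G) t
    (⟨Subgroup.zpowers u, f⟩ : PairIdx M G)
  obtain rfl : Q = Subgroup.zpowers (t * u * t⁻¹) := by
    rw [← map_conj_zpowers]; exact hc'.1.symm
  exact ⟨t * g, f', by rw [← hgu]; group, hc.trans hc', hle.cjRel hc' (cjRel_self_of_mem_stab ht)⟩

theorem Reaches.unique {P : Subgroup G} (hP : IsPGroup p P)
    {c : Blk M (Subgroup.centralizer (P : Set G))} {x u : G}
    {b b' : Blk M (Subgroup.centralizer (Subgroup.zpowers x : Set G))}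
    (h : Reaches p c x b u) (h' : Reaches p c x b' u) : b = b' := by
  obtain ⟨g, f, hgu, hc, hle⟩ := h
  obtain ⟨g', f', hgu', hc', hle'⟩ := h'
  obtain rfl : f' = f := (existsUnique_sle (S := pairSys M G) (b := ⟨P, c⟩) hP hle.le).unique hle' hle
  have h2 := hc.trans hc'.symm
  have hz : g'⁻¹ * g ∈ Subgroup.centralizer (Subgroup.zpowers x : Set G) := by
    haveI := Fintype.ofFinite G
    rw [Brauer.centralizer_zpowers_eq, Subgroup.mem_centralizer_singleton_iff]
    have e : g' * x * g'⁻¹ = g * x * g⁻¹ := hgu'.trans hgu.symm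
    calc g'⁻¹ * g * x = g'⁻¹ * (g * x * g⁻¹) * g := by group
      _ = g'⁻¹ * (g' * x * g'⁻¹) * g := by rw [e]
      _ = x * (g'⁻¹ * g) := by group
  have h3 := h2.2
  rw [fixed_iff_cj.1 ((pairSys M G (Subgroup.zpowers x)).central_idem b).fixed _ hz] at h3
  exact ((pairSys M G (Subgroup.zpowers x)).idem_injective h3).symm

theorem induced_pairOf (hM : IsPModular p M) (B : Blk M G) {x : G}
    (hx : IsPGroup p (Subgroup.zpowers x)) {C : Subgroup G}
    (hC : C = Subgroup.centralizer (Subgroup.zpowers x : Set G)) {b : Set (IrrCharacter C)}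
    (hb : IsInducedBlock M C b B.1) :
    ∃ b' : Blk M (Subgroup.centralizer (Subgroup.zpowers x : Set G)), HEq b b'.1 ∧
      blockRank p b = blockRank p b'.1 ∧
      PairOf (blockSysTop M) (pairSys M G) p B ⟨Subgroup.zpowers x, b'⟩ := by
  subst hC
  exact ⟨⟨b, hb.1⟩, HEq.rfl, rfl, SubsecNZ.pairOf_of_isInducedBlock hM B hx ⟨b, hb.1⟩ hb⟩

/-- The blocks at the identity add up to the block itself. -/
theorem rank_at_one [Fintype G] (hM : IsPModular p M) {B : Set (IrrCharacter G)}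
    (hB : IsPBlock M B) :
    (∑ᶠ b ∈ {b : Set (IrrCharacter ↥(Subgroup.centralizer ({1} : Set G))) |
      IsInducedBlock M (Subgroup.centralizer ({1} : Set G)) b B}, blockRank p b) =
      blockRank p B := by
  classical
  haveI := Fintype.ofFinite (Subgroup.centralizer ({1} : Set G))
  have hall : ∀ y : G, y ∈ Subgroup.centralizer ({1} : Set G) := fun y => by
    rw [Subgroup.mem_centralizer_singleton_iff, mul_one, one_mul]
  have h := SecCount.section_square_sum (u := (1 : G)) (k := 0) hM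
    (by rw [orderOf_one, pow_zero]) rfl hB
  have hcard : Nat.card (Subgroup.centralizer ({1} : Set G)) = Nat.card G := by
    rw [show Subgroup.centralizer ({1} : Set G) = ⊤ from eq_top_iff.2 fun y _ => hall y,
      Subgroup.card_top]
  have h2 := card_mul_blockRank hM hB
  have e : ∀ χ : IrrCharacter G,
      Brauer.regSum p (fun y : Subgroup.centralizer ({1} : Set G) => (χ : G → ℂ) (1 * (y : G)))
        (fun y : Subgroup.centralizer ({1} : Set G) => (χ : G → ℂ) (1 * (y : G))) =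
      Brauer.regSum p (χ : G → ℂ) (χ : G → ℂ) := fun χ => by
    simp only [Brauer.regSum, one_mul]
    refine Finset.sum_bij' (fun y _ => (y : G)) (fun y _ => ⟨y, hall y⟩) (fun y hy => ?_)
      (fun y hy => ?_) (fun _ _ => rfl) (fun _ _ => rfl) fun _ _ => rfl
    · simpa [Subgroup.orderOf_coe] using hy
    · simpa [Subgroup.orderOf_mk] using hy
  simp only [e] at h
  rw [← h2, hcard] at h
  exact_mod_cast (mul_left_cancel₀ (Nat.cast_ne_zero.2 Nat.card_pos.ne') h).symm

/-- If the stabilizer of the maximal pair moves the defect group, a block with cyclic defect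
group and one Brauer character has fewer characters than its defect group has elements. -/
theorem card_lt [Fintype G] (hM : IsPModular p M) {B : Blk M G} {P : Subgroup G}
    {c : Blk M (Subgroup.centralizer (P : Set G))}
    (hm : MaxPair (blockSysTop M) (pairSys M G) p B ⟨P, c⟩) (hcyc : IsCyclic P)
    (hl : blockRank p B.1 = 1) {t u₀ : G} (ht : t ∈ stab (⟨P, c⟩ : PairIdx M G)) (hu₀ : u₀ ∈ P)
    (hmove : t * u₀ * t⁻¹ ≠ u₀) : Nat.card B.1 < Nat.card P := by
  classical
  have hP : IsPGroup p P := hm.1.1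
  -- representatives
  let E : Finset G := Finset.univ.filter fun g : G => ∃ k : ℕ, orderOf g = p ^ k
  let rep : G → G := fun g => Quotient.out (ConjClasses.mk g : ConjClasses G)
  have hrep : ∀ g, IsConj (rep g) g := fun g =>
    ConjClasses.mk_eq_mk_iff_isConj.1 (Quotient.out_eq (ConjClasses.mk g))
  let X : Finset G := E.image rep
  have hX : ∀ x ∈ X, ∃ k : ℕ, orderOf x = p ^ k := by
    intro x hx
    obtain ⟨g, hg, rfl⟩ := Finset.mem_image.1 hx
    obtain ⟨k, hk⟩ := (Finset.mem_filter.1 hg).2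
    obtain ⟨t', ht'⟩ := isConj_iff.1 (hrep g)
    refine ⟨k, ?_⟩
    rw [← hk, ← MulEquiv.orderOf_eq (MulAut.conj t') (rep g), MulAut.conj_apply, ht']
  have hXrep : ∀ g : G, (∃ k : ℕ, orderOf g = p ^ k) → ∃! x, x ∈ X ∧ IsConj g x := by
    intro g hg
    refine ⟨rep g, ⟨Finset.mem_image.2 ⟨g, Finset.mem_filter.2 ⟨Finset.mem_univ _, hg⟩, rfl⟩,
      (hrep g).symm⟩, ?_⟩
    rintro x ⟨hx, hgx⟩
    obtain ⟨g', -, rfl⟩ := Finset.mem_image.1 hx
    exact congrArg Quotient.out (ConjClasses.mk_eq_mk_iff_isConj.2 ((hrep g').symm.trans hgx.symm))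
  have hone : (1 : G) ∈ X := by
    obtain ⟨x, ⟨hx, h1x⟩, -⟩ := hXrep 1 ⟨0, by rw [orderOf_one, pow_zero]⟩
    rwa [isConj_one_right.1 h1x] at hx
  rw [SecCount.card_block_eq_sum hM B.2 X hX hXrep, ← Finset.add_sum_erase _ _ hone,
    rank_at_one hM B.2, hl]
  simp only [finsum_mem_eq_toFinset_sum]
  rw [Finset.sum_sigma' (X.erase 1) _]
  have hdata : ∀ σ ∈ (X.erase 1).sigma (fun x : G =>
      ({b : Set (IrrCharacter ↥(Subgroup.centralizer ({x} : Set G))) |
        IsInducedBlock M (Subgroup.centralizer ({x} : Set G)) b B.1}).toFinset),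
      blockRank p σ.2 = 1 ∧ σ.1 ≠ 1 ∧ σ.1 ∈ X ∧
      ∃ u, ∃ b : Blk M (Subgroup.centralizer (Subgroup.zpowers σ.1 : Set G)), HEq σ.2 b.1 ∧
        Reaches p c σ.1 b u := by
    rintro ⟨x, b⟩ hσ
    simp only [Finset.mem_sigma, Finset.mem_erase, Set.mem_toFinset, Set.mem_ofPred_eq] at hσ
    obtain ⟨⟨hx1, hxX⟩, hb⟩ := hσ
    obtain ⟨k, hk⟩ := hX x hxX
    have hxp : IsPGroup p (Subgroup.zpowers x) :=
      IsPGroup.of_card (n := k) (by rw [Nat.card_zpowers, hk])
    obtain ⟨b', he, hr, hpair⟩ := induced_pairOf hM B hxp (Brauer.centralizer_zpowers_eq x).symm hb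
    obtain ⟨u, -, hu⟩ := exists_reaches hm hpair
    exact ⟨hr.trans (blockRank_section_eq_one hM hm.isDef hcyc hxp hx1 hpair), hx1, hxX, u, b', he, hu⟩
  rw [Finset.sum_congr rfl fun σ hσ => (hdata σ hσ).1, Finset.sum_const, smul_eq_mul, mul_one]
  choose! u hu using fun σ hσ => (hdata σ hσ).2.2.2
  -- different sections reach different elements
  have hinj : ∀ σ ∈ (X.erase 1).sigma (fun x : G =>
      ({b : Set (IrrCharacter ↥(Subgroup.centralizer ({x} : Set G))) |
        IsInducedBlock M (Subgroup.centralizer ({x} : Set G)) b B.1}).toFinset),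
      ∀ σ' ∈ (X.erase 1).sigma (fun x : G =>
      ({b : Set (IrrCharacter ↥(Subgroup.centralizer ({x} : Set G))) |
        IsInducedBlock M (Subgroup.centralizer ({x} : Set G)) b B.1}).toFinset),
      ∀ v, (∃ b, HEq σ.2 (Subtype.val b) ∧ Reaches p c σ.1 b v) →
        (∃ b, HEq σ'.2 (Subtype.val b) ∧ Reaches p c σ'.1 b v) → σ = σ' := by
    rintro σ hσ σ' hσ' v ⟨β, h1, hv⟩ ⟨β', h2, hv'⟩
    have hxx : σ.1 = σ'.1 := by
      obtain ⟨g, -, hg, -⟩ := hv
      obtain ⟨g', -, hg', -⟩ := hv'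
      obtain ⟨k, hk⟩ := hX _ (hdata σ hσ).2.2.1
      refine (hXrep σ.1 ⟨k, hk⟩).unique ⟨(hdata σ hσ).2.2.1, IsConj.refl _⟩
        ⟨(hdata σ' hσ').2.2.1, isConj_iff.2 ⟨g'⁻¹ * g, ?_⟩⟩
      calc g'⁻¹ * g * σ.1 * (g'⁻¹ * g)⁻¹ = g'⁻¹ * (g * σ.1 * g⁻¹) * g' := by group
        _ = g'⁻¹ * (g' * σ'.1 * g'⁻¹) * g' := by rw [hg, hg']
        _ = σ'.1 := by group
    obtain ⟨x, s⟩ := σ
    obtain ⟨x', s'⟩ := σ'
    simp only at hxx
    subst hxx
    obtain rfl := hv.unique hP hv'
    obtain rfl : s = s' := eq_of_heq (h1.trans h2.symm)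
    rfl
  set Sg := (X.erase 1).sigma (fun x : G =>
      ({b : Set (IrrCharacter ↥(Subgroup.centralizer ({x} : Set G))) |
        IsInducedBlock M (Subgroup.centralizer ({x} : Set G)) b B.1}).toFinset) with hSg
  have hu₀1 : u₀ ≠ 1 := by
    rintro rfl
    exact hmove (by simp)
  -- the image avoids the identity and one of the two conjugates
  obtain ⟨w, hw, hw1, hwim⟩ : ∃ w ∈ P, w ≠ 1 ∧ ∀ σ ∈ Sg, u σ ≠ w := by
    by_cases hcase : ∃ σ ∈ Sg, u σ = u₀
    · obtain ⟨σ, hσ, hσu⟩ := hcase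
      obtain ⟨β, hβ, hr0⟩ := hu σ hσ
      rw [hσu] at hr0
      have hr := hr0.stab ht
      refine ⟨_, hr.mem, fun h => hu₀1 ?_, fun σ' hσ' he => ?_⟩
      · exact conj_eq_one_iff.1 h
      · obtain rfl := hinj σ hσ σ' hσ' _ ⟨β, hβ, hr⟩ (he ▸ hu σ' hσ')
        exact hmove (he.symm.trans hσu)
    · exact ⟨u₀, hu₀, hu₀1, fun σ hσ h => hcase ⟨σ, hσ, h⟩⟩
  have hcard : Sg.card ≤ (((Finset.univ : Finset G).filter (· ∈ P)).erase 1 |>.erase w).card := by
    refine Finset.card_le_card_of_injOn u (fun σ hσ => ?_) fun σ hσ σ' hσ' he =>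
      hinj σ hσ σ' hσ' _ (hu σ hσ) (he ▸ hu σ' hσ')
    simp only [Finset.mem_coe] at hσ ⊢
    refine Finset.mem_erase.2 ⟨hwim σ hσ, Finset.mem_erase.2 ⟨fun h1 => (hdata σ hσ).2.1 ?_, ?_⟩⟩
    · obtain ⟨-, -, g, -, hg, -⟩ := hu σ hσ
      rw [h1] at hg
      exact conj_eq_one_iff.1 hg
    · exact Finset.mem_filter.2 ⟨Finset.mem_univ _, (hu σ hσ).choose_spec.2.mem⟩
  have hPc : ((Finset.univ : Finset G).filter (· ∈ P)).card = Nat.card P := by
    rw [Nat.card_eq_fintype_card, Fintype.card_subtype]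
  have e1 := Finset.card_erase_add_one (s := ((Finset.univ : Finset G).filter (· ∈ P)).erase 1)
    (a := w) (Finset.mem_erase.2 ⟨hw1, Finset.mem_filter.2 ⟨Finset.mem_univ _, hw⟩⟩)
  have e2 := Finset.card_erase_add_one (s := (Finset.univ : Finset G).filter (· ∈ P))
    (a := (1 : G)) (Finset.mem_filter.2 ⟨Finset.mem_univ _, P.one_mem⟩)
  omega

end Cfsg.Agent.BrauerPairs.CyclicDefect
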